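import Cfsg.Agent.Lib.OrderDegrees.ThompsonWielandt.Residual
import Cfsg.Agent.Lib.Cores.GenFitting

/-!
# The `p`-core and the layer as operators on the subgroups of a group

Both are isomorphism invariant, monotone along subnormal embeddings, and normalise suitable pieces of the
subgroups `B` normal in a normal subgroup.
-/

set_option autoImplicit false

namespace CfsgLib.OrderDegrees.ThompsonWielandt

open Cfsg CfsgLib.Cores

variable {G : Type*} [Group G]

/-- An operator on subgroups behaving like the layer or a `p`-core. -/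
structure Radical (G : Type*) [Group G] where
  /-- The operator. -/
  F : Subgroup G → Subgroup G
  le : ∀ S, F S ≤ S
  normalizer_le : ∀ S : Subgroup G,
    Subgroup.normalizer (S : Set G) ≤ Subgroup.normalizer (F S : Set G)
  card_map : ∀ (S : Subgroup G) (g : G),
    Nat.card (F (S.map (MulAut.conj g).toMonoidHom)) = Nat.card (F S)
  mono : ∀ S T : Subgroup G, SnIn (F S) T → F S ≤ F T

/-- The radical normalises a nontrivial part of every subgroup that is not of prime power order. -/
def Radical.Good (r : Radical G) : Prop :=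
  ∀ S M K B : Subgroup G, SnIn (r.F S) M → K ≤ M → M ≤ Subgroup.normalizer (K : Set G) →
    B ≤ K → K ≤ Subgroup.normalizer (B : Set G) → (∀ p : ℕ, p.Prime → ¬ IsPGroup p B) →
    ∃ B₀ : Subgroup G, B₀ ≠ ⊥ ∧ B₀ ≤ B ∧
      Subgroup.normalizer (B : Set G) ≤ Subgroup.normalizer (B₀ : Set G) ∧
      r.F S ≤ Subgroup.normalizer (B₀ : Set G)

/-- The radical centralises subnormal `p`-subgroups. -/
def Radical.Cent (r : Radical G) (p : ℕ) : Prop :=
  ∀ S M Q : Subgroup G, SnIn (r.F S) M → SnIn Q M → IsPGroup p Q →
    r.F S ≤ Subgroup.centralizer (Q : Set G)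

/-- `O_p` of a subgroup, in the ambient group. -/
def pc (p : ℕ) (S : Subgroup G) : Subgroup G := (pCore p S).map S.subtype

theorem pc_le (p : ℕ) (S : Subgroup G) : pc p S ≤ S := Subgroup.map_subtype_le _

theorem isPGroup_pc (p : ℕ) (S : Subgroup G) : IsPGroup p (pc p S) :=
  (isPGroup_pCore p S).map _

theorem normalizer_le_normalizer_pc (p : ℕ) (S : Subgroup G) :
    Subgroup.normalizer (S : Set G) ≤ Subgroup.normalizer (pc p S : Set G) :=
  normalizer_le_normalizer_map_subtype S (pCore p S)

theorem le_pc {p : ℕ} {P S : Subgroup G} (h : SnIn P S) (hP : IsPGroup p P) : P ≤ pc p S :=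
  le_map_subtype_of_subgroupOf_le h.1
    (le_pCore_of_subnormal h.2 (hP.of_equiv (Subgroup.subgroupOfEquivOfLe h.1).symm))

theorem le_pc_of_normal {p : ℕ} {P S : Subgroup G} (hle : P ≤ S)
    (hn : S ≤ Subgroup.normalizer (P : Set G)) (hP : IsPGroup p P) : P ≤ pc p S :=
  le_pc (snIn_of_normal hle hn) hP

theorem card_map_subtype {S : Subgroup G} (H : Subgroup S) :
    Nat.card (H.map S.subtype) = Nat.card H :=
  Subgroup.card_map_of_injective S.subtype_injective

theorem card_pc_map (p : ℕ) (S : Subgroup G) (g : G) :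
    Nat.card (pc p (S.map (MulAut.conj g).toMonoidHom)) = Nat.card (pc p S) := by
  rw [pc, pc, card_map_subtype, card_map_subtype,
    ← map_pCore_equiv (S.equivMapOfInjective (MulAut.conj g).toMonoidHom (MulAut.conj g).injective)]
  exact Subgroup.card_map_of_injective (MulEquiv.injective _)

/-- The `q`-core as a radical. -/
def pcRadical (q : ℕ) (G : Type*) [Group G] : Radical G where
  F := pc q
  le := pc_le q
  normalizer_le := normalizer_le_normalizer_pc q
  card_map := card_pc_map q
  mono S _ h := le_pc h (isPGroup_pc q S)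

theorem pcRadical_good [Finite G] {q : ℕ} (hq : q.Prime) : (pcRadical q G).Good := by
  intro S M K B hA hK hMK hB hKB hnp
  exact ⟨pRes q B, pRes_ne_bot hq (hnp q hq), pRes_le q B, normalizer_le_normalizer_pRes q B,
    le_normalizer_pRes hq hA (isPGroup_pc q S) hK hMK hB hKB⟩

theorem pcRadical_cent [Finite G] {p q : ℕ} (hp : p.Prime) (hq : q.Prime) (hne : q ≠ p) :
    (pcRadical q G).Cent p := by
  intro S M Q hA hQ hQp x hx
  haveI : Fact p.Prime := ⟨hp⟩
  haveI : Fact q.Prime := ⟨hq⟩
  obtain ⟨x', hx', rfl⟩ := le_pc hA (isPGroup_pc q S) hx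
  rw [Subgroup.mem_centralizer_iff]
  intro y hy
  obtain ⟨y', hy', rfl⟩ := le_pc hQ hQp hy
  exact congrArg Subtype.val (commute_pCore_of_ne (p := q) (q := p) hne hx' hy').eq.symm

/-- The layer of a subgroup, in the ambient group. -/
def lay (S : Subgroup G) : Subgroup G := (layer S).map S.subtype

/-- `L` is a component of `S`, both seen in the ambient group. -/
def CompIn (L S : Subgroup G) : Prop := SnIn L S ∧ IsQuasisimple L

theorem CompIn.isComponent {L S : Subgroup G} (h : CompIn L S) :
    IsComponent (L.subgroupOf S) :=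
  ⟨h.1.2, (isQuasisimple_subgroupOf h.1.1).2 h.2⟩

theorem CompIn.le_lay {L S : Subgroup G} (h : CompIn L S) : L ≤ lay S :=
  le_map_subtype_of_subgroupOf_le h.1.1 (le_layer h.isComponent)

theorem CompIn.trans {L S M : Subgroup G} (h : CompIn L S) (h' : SnIn S M) : CompIn L M :=
  ⟨h.1.trans h', h.2⟩

theorem lay_le_iff {S U : Subgroup G} : lay S ≤ U ↔ ∀ L, CompIn L S → L ≤ U := by
  refine ⟨fun h L hL => hL.le_lay.trans h, fun h => ?_⟩
  rw [lay, Subgroup.map_le_iff_le_comap, layer_le_iff]
  intro K hK
  rw [← Subgroup.map_le_iff_le_comap]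
  refine h _ ⟨⟨Subgroup.map_subtype_le _, ?_⟩,
    (isQuasisimple_congr (K.equivMapOfInjective S.subtype S.subtype_injective)).1 hK.2⟩
  rw [Subgroup.subgroupOf, Subgroup.comap_map_eq_self_of_injective S.subtype_injective]
  exact hK.1

theorem lay_le_of_forall {S M U : Subgroup G} (hA : SnIn (lay S) M)
    (h : ∀ L, CompIn L M → L ≤ U) : lay S ≤ U := by
  rw [lay_le_iff]
  intro L hL
  exact h L ⟨(hL.1.restrict hL.le_lay (Subgroup.map_subtype_le _)).trans hA, hL.2⟩

theorem card_lay_map (S : Subgroup G) (g : G) :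
    Nat.card (lay (S.map (MulAut.conj g).toMonoidHom)) = Nat.card (lay S) := by
  rw [lay, lay, card_map_subtype, card_map_subtype,
    ← map_layer_equiv (S.equivMapOfInjective (MulAut.conj g).toMonoidHom (MulAut.conj g).injective)]
  exact Subgroup.card_map_of_injective (MulEquiv.injective _)

/-- The layer as a radical. -/
def layRadical (G : Type*) [Group G] : Radical G where
  F := lay
  le _ := Subgroup.map_subtype_le _
  normalizer_le S := normalizer_le_normalizer_map_subtype S (layer S)
  card_map := card_lay_map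
  mono _ _ h := lay_le_of_forall h fun _ hL => hL.le_lay

theorem compIn_le_or_le_centralizer [Finite G] {L M B : Subgroup G} (hL : CompIn L M)
    (hB : SnIn B M) : L ≤ B ∨ L ≤ Subgroup.centralizer (B : Set G) := by
  rcases le_or_commutator_eq_bot hL.isComponent hB.2 with h | h
  · left
    have := Subgroup.map_mono (f := M.subtype) h
    rwa [Subgroup.map_subgroupOf_eq_of_le hL.1.1, Subgroup.map_subgroupOf_eq_of_le hB.1] at this
  · exact Or.inr (Subgroup.commutator_eq_bot_iff_le_centralizer.1
      (commutator_eq_bot_of_subgroupOf hL.1.1 hB.1 h))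

theorem layRadical_good [Finite G] : (layRadical G).Good := by
  intro S M K B hA hK hMK hB hKB hnp
  refine ⟨B, fun h => hnp 2 Nat.prime_two (h ▸ IsPGroup.of_bot), le_rfl, le_rfl, ?_⟩
  refine lay_le_of_forall hA fun L hL => ?_
  rcases compIn_le_or_le_centralizer hL
      ((snIn_of_normal hB hKB).trans (snIn_of_normal hK hMK)) with h | h
  · exact h.trans Subgroup.le_normalizer
  · exact h.trans (Subgroup.centralizer_le_normalizer _)

theorem layRadical_cent [Finite G] {p : ℕ} (hp : p.Prime) : (layRadical G).Cent p := by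
  intro S M Q hA hQ hQp
  refine lay_le_of_forall hA fun L hL => (compIn_le_or_le_centralizer hL hQ).resolve_left ?_
  intro hle
  haveI : Fact p.Prime := ⟨hp⟩
  haveI : Group.IsNilpotent Q := hQp.isNilpotent
  exact not_isSolvable_of_isQuasisimple hL.2
    (Group.isSolvable_of_isSolvable_injective (f := Subgroup.inclusion hle) (Subgroup.inclusion_injective hle))

/-- A nontrivial subgroup has nontrivial layer or nontrivial `O_q` for some prime `q`. -/
theorem exists_good_radical [Finite G] {S : Subgroup G} (hS : S ≠ ⊥) :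
    ∃ r : Radical G, r.Good ∧ r.F S ≠ ⊥ := by
  haveI : Nontrivial S := (Subgroup.nontrivial_iff_ne_bot S).2 hS
  by_cases hl : layer S = ⊥
  · have hf : fittingSubgroup S ≠ ⊥ := by
      intro hf
      refine generalizedFittingSubgroup_ne_bot (G := S) ?_
      rw [generalizedFittingSubgroup, hl, hf, bot_sup_eq]
    rw [ne_eq, fittingSubgroup_eq_bot_iff] at hf
    push Not at hf
    obtain ⟨q, hq, hqne⟩ := hf
    exact ⟨pcRadical q G, pcRadical_good hq,
      fun h => hqne ((Subgroup.map_eq_bot_iff_of_injective _ S.subtype_injective).1 h)⟩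
  · exact ⟨layRadical G, layRadical_good,
      fun h => hl ((Subgroup.map_eq_bot_iff_of_injective _ S.subtype_injective).1 h)⟩

/-- If `F*(S) ≠ O_p(S)`, some radical of `S` centralising `p`-subgroups is nontrivial. -/
theorem exists_cent_radical [Finite G] {p : ℕ} (hp : p.Prime) {S : Subgroup G}
    (hS : generalizedFittingSubgroup S ≠ pCore p S) :
    ∃ r : Radical G, r.Cent p ∧ r.F S ≠ ⊥ := by
  haveI : Fact p.Prime := ⟨hp⟩
  by_cases hl : layer S = ⊥
  · have hq : ∃ q : ℕ, q.Prime ∧ q ≠ p ∧ pCore q S ≠ ⊥ := by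
      by_contra hcon
      push Not at hcon
      apply hS
      rw [generalizedFittingSubgroup, hl, bot_sup_eq]
      refine le_antisymm ?_ (pCore_le_fittingSubgroup p)
      rw [fittingSubgroup_eq_iSup_pCore]
      refine iSup_le fun q => ?_
      rcases eq_or_ne (q : ℕ) p with h | h
      · rw [h]
      · rw [hcon q (Nat.prime_of_mem_primeFactors q.2) h]
        exact bot_le
    obtain ⟨q, hq, hne, hqne⟩ := hq
    exact ⟨pcRadical q G, pcRadical_cent hp hq hne,
      fun h => hqne ((Subgroup.map_eq_bot_iff_of_injective _ S.subtype_injective).1 h)⟩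
  · exact ⟨layRadical G, layRadical_cent hp,
      fun h => hl ((Subgroup.map_eq_bot_iff_of_injective _ S.subtype_injective).1 h)⟩

end CfsgLib.OrderDegrees.ThompsonWielandt
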