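import Cfsg.Agent.Lib.Cores.PCore

/-!
# Relative subnormality and the subgroup generated by the `p'`-elements

A subnormal `p`-subgroup of `M` normalises the subgroup generated by the elements of order prime to `p` of
any subgroup `B` normal in a normal subgroup of `M`.
-/

set_option autoImplicit false

namespace CfsgLib.OrderDegrees.ThompsonWielandt

open Cfsg CfsgLib.Cores

variable {G : Type*} [Group G]

/-- `A` is a subnormal subgroup of `M`, both seen in the ambient group. -/
def SnIn (A M : Subgroup G) : Prop :=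
  A ≤ M ∧ (A.subgroupOf M).IsSubnormal

theorem SnIn.le {A M : Subgroup G} (h : SnIn A M) : A ≤ M := h.1

theorem snIn_of_normal {A M : Subgroup G} (hle : A ≤ M)
    (hn : M ≤ Subgroup.normalizer (A : Set G)) : SnIn A M :=
  ⟨hle, ((Subgroup.normal_subgroupOf_iff_le_normalizer hle).2 hn).isSubnormal⟩

theorem SnIn.restrict {A N M : Subgroup G} (h : SnIn A M) (hAN : A ≤ N) (hNM : N ≤ M) :
    SnIn A N :=
  ⟨hAN, h.2.comap (Subgroup.inclusion hNM)⟩

theorem SnIn.trans {A N M : Subgroup G} (h : SnIn A N) (h' : SnIn N M) : SnIn A M := by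
  refine ⟨h.1.trans h'.1, ?_⟩
  refine Subgroup.IsSubnormal.trans (K := N.subgroupOf M) (Subgroup.comap_mono h.1) ?_ h'.2
  exact h.2.comap (Subgroup.subgroupOfEquivOfLe h'.1).toMonoidHom

theorem le_normalizer_of_conj_mem {A D : Subgroup G}
    (h : ∀ x ∈ A, ∀ g ∈ D, x * g * x⁻¹ ∈ D) : A ≤ Subgroup.normalizer (D : Set G) := by
  intro x hx
  rw [Subgroup.mem_normalizer_iff]
  intro g
  refine ⟨h x hx g, fun hg => ?_⟩
  have := h x⁻¹ (inv_mem hx) _ hg
  simpa [mul_assoc] using this

theorem conj_mem {D : Subgroup G} {x g : G} (hx : x ∈ Subgroup.normalizer (D : Set G))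
    (hg : g ∈ D) : x * g * x⁻¹ ∈ D :=
  (Subgroup.mem_normalizer_iff.1 hx g).1 hg

/-- The subgroup generated by the elements of `B` of order prime to `p`. -/
def pRes (p : ℕ) (B : Subgroup G) : Subgroup G :=
  Subgroup.closure {g : G | g ∈ B ∧ ¬ p ∣ orderOf g}

theorem pRes_le (p : ℕ) (B : Subgroup G) : pRes p B ≤ B :=
  (Subgroup.closure_le B).2 fun _ hg => hg.1

theorem le_normalizer_pRes_of_forall {p : ℕ} {A B : Subgroup G}
    (h : ∀ x ∈ A, ∀ g ∈ B, ¬ p ∣ orderOf g → x * g * x⁻¹ ∈ B) :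
    A ≤ Subgroup.normalizer (pRes p B : Set G) := by
  refine le_normalizer_of_conj_mem fun x hx g hg => ?_
  have hle : (pRes p B).map (MulAut.conj x).toMonoidHom ≤ pRes p B := by
    rw [pRes, MonoidHom.map_closure]
    refine Subgroup.closure_mono ?_
    rintro _ ⟨g, ⟨hgB, hgp⟩, rfl⟩
    refine ⟨h x hx g hgB hgp, ?_⟩
    rwa [orderOf_injective (MulAut.conj x).toMonoidHom (MulAut.conj x).injective]
  exact hle ⟨g, hg, rfl⟩

theorem normalizer_le_normalizer_pRes (p : ℕ) (B : Subgroup G) :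
    Subgroup.normalizer (B : Set G) ≤ Subgroup.normalizer (pRes p B : Set G) :=
  le_normalizer_pRes_of_forall fun _ hx _ hg _ => conj_mem hx hg

theorem pRes_ne_bot [Finite G] {p : ℕ} (hp : p.Prime) {B : Subgroup G} (h : ¬ IsPGroup p B) :
    pRes p B ≠ ⊥ := by
  intro hbot
  refine h (IsPGroup.of_card (n := (Nat.card B).primeFactorsList.length)
    (Nat.eq_prime_pow_of_unique_prime_dvd Nat.card_pos.ne' ?_))
  intro q hq hdvd
  by_contra hne
  haveI : Fact q.Prime := ⟨hq⟩
  obtain ⟨g, hg⟩ := exists_prime_orderOf_dvd_card' q hdvd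
  have hord : orderOf (g : G) = q := by rw [Subgroup.orderOf_coe, hg]
  have hmem : (g : G) ∈ pRes p B := Subgroup.subset_closure ⟨g.2, fun hd => hne (by
    rw [hord] at hd
    exact ((Nat.prime_dvd_prime_iff_eq hp hq).1 hd).symm)⟩
  rw [hbot, Subgroup.mem_bot] at hmem
  rw [hmem, orderOf_one] at hord
  exact hq.ne_one hord.symm

/-- A subnormal `p`-subgroup of `M` normalises the subgroup generated by the `p'`-elements of `B`. -/
theorem le_normalizer_pRes [Finite G] {p : ℕ} (hp : p.Prime) {A M K B : Subgroup G}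
    (hA : SnIn A M) (hAp : IsPGroup p A) (hK : K ≤ M)
    (hMK : M ≤ Subgroup.normalizer (K : Set G)) (hB : B ≤ K)
    (hKB : K ≤ Subgroup.normalizer (B : Set G)) :
    A ≤ Subgroup.normalizer (pRes p B : Set G) := by
  set R : Subgroup G := (pCore p M).map M.subtype with hR
  have hAR : A ≤ R := by
    apply le_map_subtype_of_subgroupOf_le hA.1
    exact le_pCore_of_subnormal hA.2 (hAp.of_equiv (Subgroup.subgroupOfEquivOfLe hA.1).symm)
  have hRM : R ≤ M := Subgroup.map_subtype_le _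
  have hMR : M ≤ Subgroup.normalizer (R : Set G) :=
    Subgroup.le_normalizer.trans (normalizer_le_normalizer_map_subtype M (pCore p M))
  have hRp : IsPGroup p R := (isPGroup_pCore p M).map _
  refine le_normalizer_pRes_of_forall fun x hx g hg hgp => ?_
  have hgK : g ∈ K := hB hg
  have hxR : x ∈ R := hAR hx
  have hK1 : x * g * x⁻¹ ∈ K := conj_mem (hMK (hRM hxR)) hgK
  have huR : x * g * x⁻¹ * g⁻¹ ∈ R := by
    have := mul_mem hxR (conj_mem (hMR (hK hgK)) (inv_mem hxR))
    simpa [mul_assoc] using this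
  haveI : (B.subgroupOf K).Normal := Subgroup.normal_subgroupOf_of_le_normalizer hKB
  have hu : x * g * x⁻¹ * g⁻¹ ∈ K := mul_mem hK1 (inv_mem hgK)
  let π := QuotientGroup.mk' (B.subgroupOf K)
  let h : K := ⟨x * g * x⁻¹, hK1⟩
  let u : K := ⟨x * g * x⁻¹ * g⁻¹, hu⟩
  let g' : K := ⟨g, hgK⟩
  have hhu : h = u * g' := Subtype.ext (by simp [h, u, g', mul_assoc])
  have hg1 : π g' = 1 := (QuotientGroup.eq_one_iff g').2 hg
  have hπ : π h = π u := by rw [hhu, map_mul, hg1, mul_one]
  have h1 : orderOf (π h) ∣ orderOf g := by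
    refine (orderOf_map_dvd π h).trans (dvd_of_eq ?_)
    rw [← Subgroup.orderOf_coe]
    exact orderOf_injective (MulAut.conj x).toMonoidHom (MulAut.conj x).injective g
  obtain ⟨k, hk⟩ := hRp ⟨_, huR⟩
  have h2 : orderOf (π h) ∣ p ^ k := by
    rw [hπ]
    refine (orderOf_map_dvd π u).trans ?_
    rw [← Subgroup.orderOf_coe]
    exact orderOf_dvd_of_pow_eq_one (congrArg Subtype.val hk)
  have h3 : orderOf (π h) = 1 :=
    Nat.eq_one_of_dvd_coprimes (((hp.coprime_iff_not_dvd).2 hgp).pow_left k) h2 h1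
  exact (QuotientGroup.eq_one_iff h).1 (orderOf_eq_one_iff.1 h3)

end CfsgLib.OrderDegrees.ThompsonWielandt
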